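import Groth.Agent.Lefpen.H651.DvrJ
import Groth.Agent.Etdl.H437.PureBC
import Groth.Agent.S0162
import Groth.Agent.S3112
import Groth.Agent.S0185
import Groth.Agent.S0654
import Groth.Agent.S0073
import Groth.Agent.Sga4A.HensFibre
import Groth.Agent.Sga4B.TwoRowEt
import Groth.Agent.Sga4B.TateConst
import Groth.Agent.Sga4B.HTools
import Groth.Agent.Sga5.ClosedPush
import Mathlib.AlgebraicGeometry.AlgClosed.Basic
import Mathlib.Analysis.Fourier.FiniteAbelian.PontryaginDuality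
import Mathlib.Analysis.SpecialFunctions.Complex.CircleAddChar

/-!
# An upper bound for the cohomology of the generic fibre of a degeneration with one singular point

(UB) and (UB0) of the plan for S4031.
-/

set_option autoImplicit false
set_option linter.unusedSectionVars false
universe u
open CategoryTheory CategoryTheory.Limits AlgebraicGeometry Opposite

namespace Groth.Agent.Lefpen.H651.UB

open Groth.Agent.Vancyc.H675.AcycPt

/-- `|B| ≤ |A| |C|` for `A → B → C` exact. -/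
theorem finite_card_of_exact {A B C : Type*} [AddCommGroup A] [AddCommGroup B] [AddCommGroup C]
    (f : A →+ B) (g : B →+ C) (h : Function.Exact f g) [Finite A] [Finite C] :
    Finite B ∧ Nat.card B ≤ Nat.card A * Nat.card C := by
  have hk : (g.ker : Set B) = Set.range f := by
    ext x
    exact h x
  have hfk : Finite g.ker := by
    have : (g.ker : Set B).Finite := hk ▸ Set.finite_range f
    exact this.to_subtype
  have hfq : Finite (B ⧸ g.ker) :=
    Finite.of_injective _ (QuotientAddGroup.kerLift_injective g)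
  have hB : Finite B := Finite.of_equiv _ (AddSubgroup.addGroupEquivQuotientProdAddSubgroup (s := g.ker)).symm
  refine ⟨hB, ?_⟩
  rw [AddSubgroup.card_eq_card_quotient_mul_card_addSubgroup g.ker, Nat.mul_comm]
  refine Nat.mul_le_mul ?_ ?_
  · have h1 : Function.Surjective (fun a : A => (⟨f a, (h _).2 ⟨a, rfl⟩⟩ : g.ker)) := by
      rintro ⟨b, hb⟩
      obtain ⟨a, rfl⟩ := (h b).1 hb
      exact ⟨a, rfl⟩
    exact Nat.card_le_card_of_surjective _ h1
  · exact Nat.card_le_card_of_injective _ (QuotientAddGroup.kerLift_injective g)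

/-- `|Hom(G, ℤ/n)| ≤ |G|`. -/
theorem card_hom_le {n : ℕ} (hn : n ≠ 0) (G : Type*) [AddCommGroup G] [Finite G] :
    Finite (G →+ ZMod n) ∧ Nat.card (G →+ ZMod n) ≤ Nat.card G := by
  have : NeZero n := ⟨hn⟩
  have := Fintype.ofFinite G
  have h1 : Function.Injective (fun β : G →+ ZMod n =>
      (ZMod.stdAddChar (N := n)).compAddMonoidHom β) := by
    intro β β' h
    ext g
    have := DFunLike.congr_fun h g
    exact ZMod.injective_stdAddChar this
  have hf : Finite (G →+ ZMod n) := Finite.of_injective _ h1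
  refine ⟨hf, ?_⟩
  have h2 := Nat.card_le_card_of_injective _ h1
  rw [Nat.card_eq_fintype_card (α := G), ← AddChar.card_eq]
  rwa [Nat.card_eq_fintype_card (α := AddChar G ℂ)] at h2

open Abelian in
/-- The long exact sequence: injectivity in degree `q + 1`. -/
theorem HF_injective_succ {X : Scheme.{u}} (S : ShortComplex (EtCoh.Ab X)) (hS : S.ShortExact) (q : ℕ)
    (h : Subsingleton (EtCoh.H X S.X₃ q)) :
    Function.Injective ((EtCoh.HF X (q + 1)).map S.f).hom := by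
  rw [← AddMonoidHom.ker_eq_bot_iff, AddSubgroup.eq_bot_iff_forall]
  intro x hx
  obtain ⟨y, hy⟩ := Ext.covariant_sequence_exact₁ (X := (constantSheaf X.smallEtaleTopology
    AddCommGrpCat.{u+1}).obj (AddCommGrpCat.of (ULift ℤ))) hS (x : Ext _ S.X₁ (q + 1)) hx rfl
  have hy0 : y = 0 := Subsingleton.elim (α := EtCoh.H X S.X₃ q) _ _
  rw [hy0] at hy
  exact hy.symm.trans (Ext.zero_comp (C := EtCoh.Ab X) _ _ _ _ _)

/-- A cartesian square restricted to an open subscheme containing the image. -/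
theorem isPullback_of_mono {A B C X V : Scheme.{u}} {a : A ⟶ B} {j : A ⟶ V} {m : V ⟶ X} {c : B ⟶ C}
    {f : X ⟶ C} [Mono m] (h : IsPullback a (j ≫ m) c f) : IsPullback a j c (m ≫ f) := by
  refine ⟨⟨by rw [h.w, Category.assoc]⟩, ⟨PullbackCone.IsLimit.mk _
    (fun s => h.lift s.fst (s.snd ≫ m) (by rw [s.condition, Category.assoc])) (fun s => h.lift_fst _ _ _)
    (fun s => ?_) fun s l h1 h2 => ?_⟩⟩
  · rw [← cancel_mono m, Category.assoc]
    exact h.lift_snd _ _ _
  · apply h.hom_ext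
    · rw [h1, h.lift_fst]
    · rw [← Category.assoc, h2, h.lift_snd]

section Level

variable {R K : Type u} [CommRing R] [IsDomain R] [IsDiscreteValuationRing R] [Field K]
  [Algebra R K] [IsFractionRing R K] (hR : EtCoh.IsStrictlyHenselianLocalRing R)
  (N : ℕ) (hN : IsUnit (N : R))

include hN in
theorem isUnit_Γ : IsUnit (N : Γ(Spec (CommRingCat.of R), ⊤)) := by
  have h1 := hN.map (Scheme.ΓSpecIso (CommRingCat.of R)).inv.hom
  rwa [map_natCast] at h1

theorem killedBy_const (X : Scheme.{u}) : EtCoh.KilledBy N (EtCoh.const X (ZMod N)) :=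
  Etrest.ConstBasic.killedBy_const X (ZMod N) N (by simp)

variable {V P : Scheme.{u}} (g : V ⟶ Spec (CommRingCat.of R)) [Smooth g] (j : P ⟶ V)
  (e : P ⟶ Spec (CommRingCat.of K)) (sq : IsPullback e j (VanCyc.toS R K) g)

include hR hN sq

/-- The base change data for `j₀` and a smooth morphism. -/
theorem bc : Etdl.H437.PureBC.BC g (VanCyc.toS R K) j e sq.w
    (EtCoh.const (Spec (CommRingCat.of R)) (ZMod N)) := by
  have hT : EtPBC.IsTorsionInvertibleOn (Spec (CommRingCat.of R)) ((EtCoh.pull (VanCyc.toS R K)).obj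
      (EtCoh.const (Spec (CommRingCat.of R)) (ZMod N))) :=
    isTorsionInvertibleOn_of_killedBy _ N (isUnit_Γ N hN) _
      (Etcore.Torsion.killedBy_pull N _ _ (killedBy_const N _))
  exact ⟨fun q => (Groth.Agent.S0162.result g (VanCyc.toS R K) j e sq _ hT q).1,
    (Groth.Agent.S0162.result g (VanCyc.toS R K) j e sq _ hT 0).2⟩

/-- `j_* ℤ/N = ℤ/N`. -/
theorem isIso_unit : IsIso ((EtCoh.pullPushAdj j).unit.app (EtCoh.const V (ZMod N))) := by
  have hj : IsOpenImmersion (VanCyc.toS R K) := Groth.Agent.Models.DVRGeneric.isOpenImmersion_generic R K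
  have h0 := DvrJ.isIso_unit_const R K hR (AddCommGrpCat.of (ULift.{u + 1} (ZMod N)))
  have h1 := (bc hR N hN g j e sq).isIso_unit h0
  exact (NatTrans.isIso_app_iff_of_iso (EtCoh.pullPushAdj j).unit (EtCore.pullConst g (ZMod N))).1 h1

theorem nonempty_push_const :
    Nonempty ((EtCoh.Rpush j 0).obj (EtCoh.const P (ZMod N)) ≅ EtCoh.const V (ZMod N)) := by
  have h := isIso_unit hR N hN g j e sq
  exact ⟨(EtCoh.push j).rightDerivedZeroIsoSelf.app _ ≪≫
    (EtCoh.push j).mapIso (EtCore.pullConst j (ZMod N)).symm ≪≫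
    (asIso ((EtCoh.pullPushAdj j).unit.app (EtCoh.const V (ZMod N)))).symm⟩

/-- `R^q j_* ℤ/N ≅ g^* R^q j₀_* ℤ/N`. -/
theorem nonempty_Rpush_iso (q : ℕ) :
    Nonempty ((EtCoh.pull g).obj ((EtCoh.Rpush (VanCyc.toS R K) q).obj
        (EtCoh.const (Spec (CommRingCat.of K)) (ZMod N))) ≅
      (EtCoh.Rpush j q).obj (EtCoh.const P (ZMod N))) := by
  obtain ⟨i⟩ := (bc hR N hN g j e sq).1 q
  exact ⟨(EtCoh.pull g).mapIso ((EtCoh.Rpush (VanCyc.toS R K) q).mapIso
      (EtCore.pullConst (VanCyc.toS R K) (ZMod N)).symm) ≪≫ i ≪≫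
    (EtCoh.Rpush j q).mapIso ((EtCoh.pull e).mapIso (EtCore.pullConst (VanCyc.toS R K) (ZMod N)) ≪≫
      EtCore.pullConst e (ZMod N))⟩

theorem isZero_Rpush (q : ℕ) (hq : 2 ≤ q) :
    IsZero ((EtCoh.Rpush j q).obj (EtCoh.const P (ZMod N))) := by
  obtain ⟨i⟩ := nonempty_Rpush_iso hR N hN g j e sq q
  exact ((EtCoh.pull g).map_isZero
    (DvrJ.isZero_Rpush R K hR N hN _ (killedBy_const N _) q hq)).of_iso i.symm

/-- `R¹ j_* ℤ/N ≅ i_* ℤ/N`. -/
theorem nonempty_R1 {Vs : Scheme.{u}} (i : Vs ⟶ V) (e' : Vs ⟶ Spec (CommRingCat.of (IsLocalRing.ResidueField R)))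
    (sq' : IsPullback e' i (VanCyc.toSk R) g) :
    Nonempty ((EtCoh.Rpush j 1).obj (EtCoh.const P (ZMod N)) ≅
      (EtCoh.push i).obj (EtCoh.const Vs (ZMod N))) := by
  obtain ⟨a⟩ := nonempty_Rpush_iso hR N hN g j e sq 1
  obtain ⟨b⟩ := DvrJ.exists_R1 R K hR N hN
  have hT : EtPBC.IsTorsionInvertibleOn (Spec (CommRingCat.of R))
      (EtCoh.const (Spec (CommRingCat.of (IsLocalRing.ResidueField R))) (ZMod N)) :=
    isTorsionInvertibleOn_of_killedBy _ N (isUnit_Γ N hN) _ (killedBy_const N _)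
  obtain ⟨c⟩ := (Groth.Agent.S0162.result g (VanCyc.toSk R) i e' sq' _ hT 0).1
  exact ⟨a.symm ≪≫ (EtCoh.pull g).mapIso b ≪≫
    (EtCoh.pull g).mapIso ((EtCoh.push (VanCyc.toSk R)).rightDerivedZeroIsoSelf.app _).symm ≪≫ c ≪≫
    (EtCoh.push i).rightDerivedZeroIsoSelf.app _ ≪≫
    (EtCoh.push i).mapIso (EtCore.pullConst e' (ZMod N))⟩

/-- The upper bound in terms of the special fibre of `V`. -/
theorem card_le_aux {Vs : Scheme.{u}} (i : Vs ⟶ V) [IsClosedImmersion i]
    (e' : Vs ⟶ Spec (CommRingCat.of (IsLocalRing.ResidueField R)))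
    (sq' : IsPullback e' i (VanCyc.toSk R) g) (n : ℕ)
    (h1 : Finite (EtCoh.H V (EtCoh.const V (ZMod N)) (n + 1)))
    (h2 : Finite (EtCoh.H Vs (EtCoh.const Vs (ZMod N)) n)) :
    Finite (EtCoh.H P (EtCoh.const P (ZMod N)) (n + 1)) ∧
    Nat.card (EtCoh.H P (EtCoh.const P (ZMod N)) (n + 1)) ≤
      Nat.card (EtCoh.H V (EtCoh.const V (ZMod N)) (n + 1)) *
        Nat.card (EtCoh.H Vs (EtCoh.const Vs (ZMod N)) n) := by
  obtain ⟨a⟩ := nonempty_push_const hR N hN g j e sq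
  obtain ⟨b⟩ := nonempty_R1 hR N hN g j e sq i e' sq'
  obtain ⟨c⟩ := Sga5.ClosedPush.nonempty_H_push i (EtCoh.const Vs (ZMod N)) n
  let A := Sga4B.HTools.HCongr a (n + 1)
  let B := (Sga4B.HTools.HCongr b n).trans c
  have hf1 : Finite (EtCoh.H V ((EtCoh.Rpush j 0).obj (EtCoh.const P (ZMod N))) (n + 1)) :=
    Finite.of_equiv _ A.symm.toEquiv
  have hf2 : Finite (EtCoh.H V ((EtCoh.Rpush j 1).obj (EtCoh.const P (ZMod N))) n) :=
    Finite.of_equiv _ B.symm.toEquiv
  have hex := Sga4B.TwoRowEt.exact_lowH_highH j 0 1 (n + 1) (n + 1) n rfl rfl rfl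
    (EtCoh.const P (ZMod N)) (fun q hq => absurd hq (Nat.not_lt_zero q))
    (fun q hq => isZero_Rpush hR N hN g j e sq q hq)
  obtain ⟨h3, h4⟩ := finite_card_of_exact _ _ hex
  refine ⟨h3, h4.trans_eq ?_⟩
  rw [Nat.card_congr A.toEquiv, Nat.card_congr B.toEquiv]

end Level

section Special

theorem isSepClosed_residueField (k : Type u) [Field k] [IsAlgClosed k] :
    IsSepClosed (IsLocalRing.ResidueField k) := by
  have h : IsAlgClosed (IsLocalRing.ResidueField k) :=
    IsAlgClosed.of_ringEquiv k _ (RingEquiv.ofBijective (IsLocalRing.residue k)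
      ⟨RingHom.injective _, IsLocalRing.residue_surjective⟩)
  infer_instance

/-- Duality on the special fibre. -/
theorem card_special (k : Type u) [Field k] [IsAlgClosed k] {Y : Scheme.{u}}
    (a : Y ⟶ Spec (CommRingCat.of k)) [IsProper a] (U : Y.Opens) (m : ℕ) (hm : 1 ≤ m)
    (hU : SmoothOfRelativeDimension m (U.ι ≫ a)) (x₀ : Y) (hx : ((U : Set Y)ᶜ) = {x₀})
    (N : ℕ) (hN : (N : k) ≠ 0) :
    Finite (EtCoh.H (U : Scheme.{u}) (EtCoh.const (U : Scheme.{u}) (ZMod N)) (m - 1)) ∧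
    Finite (EtCoh.H Y (EtCoh.const Y (ZMod N)) (m + 1)) ∧
    Nat.card (EtCoh.H (U : Scheme.{u}) (EtCoh.const (U : Scheme.{u}) (ZMod N)) (m - 1)) ≤
      Nat.card (EtCoh.H Y (EtCoh.const Y (ZMod N)) (m + 1)) := by
  have hN0 : N ≠ 0 := by
    rintro rfl
    simp at hN
  have : NeZero N := ⟨hN0⟩
  have hcl : IsClosed ({x₀} : Set Y) := by
    rw [← hx]
    exact U.2.isClosed_compl
  let p : Spec (CommRingCat.of k) ⟶ Y := pointOfClosedPoint a x₀ hcl
  have hp : p ≫ a = 𝟙 _ := pointOfClosedPoint_comp a x₀ hcl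
  have hpc : IsClosedImmersion p := isClosedImmersion_of_comp_eq_id _ _ hp
  have hpr : Set.range p.base = {x₀} := by
    ext y
    constructor
    · rintro ⟨z, rfl⟩
      exact pointOfClosedPoint_apply a x₀ hcl z
    · rintro rfl
      exact ⟨default, pointOfClosedPoint_apply a y hcl default⟩
  have hU' : (U : Set Y) = (Set.range p.base)ᶜ := by
    rw [hpr, ← hx, compl_compl]
  have hFin : Finite (EtCoh.H Y (EtCoh.const Y (ZMod N)) (m + 1)) :=
    Groth.Agent.S0185.result Y a N (Nat.pos_of_ne_zero hN0) _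
      (Etrest.ConstBasic.isConstructible_const Y (ZMod N)) (killedBy_const N Y) (m + 1)
  obtain ⟨w, hw⟩ := Groth.Agent.S0654.result p U hU' (EtCoh.const Y (ZMod N))
  have hz : Subsingleton (EtCoh.H Y ((EtCoh.push p).obj ((EtCoh.pull p).obj (EtCoh.const Y (ZMod N)))) m) := by
    obtain ⟨c⟩ := Sga5.ClosedPush.nonempty_H_push p ((EtCoh.pull p).obj (EtCoh.const Y (ZMod N))) m
    have h0 : Subsingleton (EtCoh.H (Spec (CommRingCat.of k))
        ((EtCoh.pull p).obj (EtCoh.const Y (ZMod N))) m) := by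
      have h3 : IsSepClosed (IsLocalRing.ResidueField k) := isSepClosed_residueField k
      exact Groth.Agent.S0073.result k _ m hm
    exact c.toEquiv.subsingleton
  have hinj := HF_injective_succ _ hw m hz
  -- the sheaf `j_! ℤ/N`
  let t : (EtShriek.extZero U.ι).obj (EtCoh.const (U : Scheme.{u}) (ZMod N)) ≅
      (EtShriek.extZero U.ι).obj ((EtShriek.restrAlong U.ι).obj (EtCoh.const Y (ZMod N))) :=
    (EtShriek.extZero U.ι).mapIso ((EtCore.pullConst U.ι (ZMod N)).symm ≪≫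
      (Groth.Agent.Sga4h.EtaleRes.pullIsoRestr U.ι).app (EtCoh.const Y (ZMod N)))
  have hf1 : Finite (EtCoh.H Y ((EtShriek.extZero U.ι).obj ((EtShriek.restrAlong U.ι).obj
      (EtCoh.const Y (ZMod N)))) (m + 1)) :=
    @Finite.of_injective _ (EtCoh.H Y (EtCoh.const Y (ZMod N)) (m + 1)) hFin _ hinj
  have hf2 : Finite (EtCoh.H Y ((EtShriek.extZero U.ι).obj (EtCoh.const (U : Scheme.{u}) (ZMod N))) (m + 1)) :=
    Finite.of_equiv _ (Sga4B.HTools.HCongr t (m + 1)).symm.toEquiv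
  have hc2 : Nat.card (EtCoh.H Y ((EtShriek.extZero U.ι).obj (EtCoh.const (U : Scheme.{u}) (ZMod N))) (m + 1)) ≤
      Nat.card (EtCoh.H Y (EtCoh.const Y (ZMod N)) (m + 1)) := by
    rw [Nat.card_congr (Sga4B.HTools.HCongr t (m + 1)).toEquiv]
    exact Nat.card_le_card_of_injective _ hinj
  obtain ⟨d⟩ := Groth.Agent.S3112.result k a U.ι m N hN (m + 1) (by omega)
  obtain ⟨τ⟩ := Sga4B.TateConst.nonempty_iso k N hN (U.ι ≫ a) m
  have he : 2 * m - (m + 1) = m - 1 := by omega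
  rw [he] at d
  obtain ⟨hf3, hc3⟩ := card_hom_le hN0 (EtCoh.H Y ((EtShriek.extZero U.ι).obj
    (EtCoh.const (U : Scheme.{u}) (ZMod N))) (m + 1))
  let D := (Sga4B.HTools.HCongr τ (m - 1)).trans d
  refine ⟨Finite.of_equiv _ D.symm.toEquiv, hFin, ?_⟩
  rw [Nat.card_congr D.toEquiv]
  exact hc3.trans hc2

end Special

theorem exists_lift (R K : Type u) [CommRing R] [Field K] [Algebra R K]
    {X : Scheme.{u}} (f : X ⟶ Spec (CommRingCat.of R)) (V : X.Opens)
    (hVK : ∀ x : ↥(VanCyc.fib R f K), (VanCyc.jA R f K).base x ∈ V) :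
    ∃ j : VanCyc.fib R f K ⟶ (V : Scheme.{u}), j ≫ V.ι = VanCyc.jA R f K := by
  refine ⟨IsOpenImmersion.lift V.ι (VanCyc.jA R f K) ?_, IsOpenImmersion.lift_fac _ _ _⟩
  rintro _ ⟨x, rfl⟩
  rw [Scheme.Opens.range_ι]
  exact hVK x

/-- (UB0) -/
theorem upper_zero (R K : Type u) [CommRing R] [IsDomain R] [IsDiscreteValuationRing R]
    (hR : EtCoh.IsStrictlyHenselianLocalRing R) [Field K] [Algebra R K] [IsFractionRing R K]
    {X : Scheme.{u}} (f : X ⟶ Spec (CommRingCat.of R)) [IsProper f]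
    (V : X.Opens) (hV : Smooth (V.ι ≫ f))
    (hVK : ∀ x : ↥(VanCyc.fib R f K), (VanCyc.jA R f K).base x ∈ V)
    (N : ℕ) (hN : IsUnit (N : R)) :
    Nat.card (EtCoh.H (VanCyc.fib R f K) (EtCoh.const (VanCyc.fib R f K) (ZMod N)) 0) =
      Nat.card (EtCoh.H (V : Scheme.{u}) (EtCoh.const (V : Scheme.{u}) (ZMod N)) 0) := by
  obtain ⟨j, hj⟩ := exists_lift R K f V hVK
  have sq : IsPullback (VanCyc.fibStr R f K) j (VanCyc.toS R K) (V.ι ≫ f) := by
    apply isPullback_of_mono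
    rw [hj]
    exact (IsPullback.of_hasPullback f (VanCyc.toS R K)).flip
  have h1 := isIso_unit hR N hN (V.ι ≫ f) j (VanCyc.fibStr R f K) sq
  -- `H⁰(P, ℤ/N) = H⁰(V, j_* ℤ/N)`
  let a : EtCoh.const (V : Scheme.{u}) (ZMod N) ≅ (EtCoh.push j).obj (EtCoh.const (VanCyc.fib R f K) (ZMod N)) :=
    asIso ((EtCoh.pullPushAdj j).unit.app (EtCoh.const (V : Scheme.{u}) (ZMod N))) ≪≫
      (EtCoh.push j).mapIso (EtCore.pullConst j (ZMod N))
  have e1 : EtCoh.H (V : Scheme.{u}) ((EtCoh.push j).obj (EtCoh.const (VanCyc.fib R f K) (ZMod N))) 0 ≃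
      EtCoh.H (VanCyc.fib R f K) (EtCoh.const (VanCyc.fib R f K) (ZMod N)) 0 := by
    refine (Sheaf.H.equiv₀ _ (EtCore.topIsTerminal (V : Scheme.{u}))).toEquiv.trans ?_
    refine Equiv.trans ?_ (Sheaf.H.equiv₀ _ (EtCore.topIsTerminal (VanCyc.fib R f K))).toEquiv.symm
    exact ((EtpbcB.SepClosedPoint.gammaPush j).app _).addCommGroupIsoToAddEquiv.toEquiv
  rw [Nat.card_congr e1.symm, Nat.card_congr (Sga4B.HTools.HCongr a 0).toEquiv]

/-- Cohomology of a proper scheme over a strictly henselian local ring and of its special fibre. -/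
theorem nonempty_H_special (R : Type u) [CommRing R] [HenselianLocalRing R] {X : Scheme.{u}}
    (f : X ⟶ Spec (CommRingCat.of R)) [IsProper f] (N : ℕ) (hN0 : 0 < N) (q : ℕ) :
    Nonempty (EtCoh.H X (EtCoh.const X (ZMod N)) q ≃+
      EtCoh.H (VanCyc.spFib R f) (EtCoh.const (VanCyc.spFib R f) (ZMod N)) q) := by
  have hpl : PreservesFiniteLimits (EtCoh.pull (VanCyc.icl R f)) := Groth.Agent.S0101.result _
  have hsq : IsPullback (VanCyc.icl R f) (VanCyc.spStr R f) f (VanCyc.toSk R) :=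
    IsPullback.of_hasPullback f (VanCyc.toSk R)
  have h1 := Groth.Agent.Sga4A.HensFibre.Hpull_proper R (IsLocalRing.maximalIdeal R) f
    (VanCyc.icl R f) (VanCyc.spStr R f) hsq (EtCoh.const X (ZMod N))
    (Etrest.ConstBasic.isTorsion_of_killedBy hN0 (killedBy_const N X)) q
  exact ⟨(AddEquiv.ofBijective _ h1).trans
    (Sga4B.HTools.HCongr (EtCore.pullConst (VanCyc.icl R f) (ZMod N)) q)⟩

/-- (UB) -/
theorem upper (R K : Type u) [CommRing R] [IsDomain R] [IsDiscreteValuationRing R]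
    (hR : EtCoh.IsStrictlyHenselianLocalRing R) [Field K] [Algebra R K] [IsFractionRing R K]
    [IsAlgClosed (IsLocalRing.ResidueField R)]
    {X : Scheme.{u}} (f : X ⟶ Spec (CommRingCat.of R)) [IsProper f]
    (V : X.Opens) (m : ℕ) (hm : 1 ≤ m) (hV : SmoothOfRelativeDimension m (V.ι ≫ f))
    (x₀ : ↥(VanCyc.spFib R f)) (hVx : ((V : Set X)ᶜ) = {(VanCyc.icl R f).base x₀})
    (N : ℕ) (hN : IsUnit (N : R))
    (hfin : Finite (EtCoh.H (V : Scheme.{u}) (EtCoh.const (V : Scheme.{u}) (ZMod N)) m)) :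
    Finite (EtCoh.H (VanCyc.fib R f K) (EtCoh.const (VanCyc.fib R f K) (ZMod N)) m) ∧
    Nat.card (EtCoh.H (VanCyc.fib R f K) (EtCoh.const (VanCyc.fib R f K) (ZMod N)) m) ≤
      Nat.card (EtCoh.H (V : Scheme.{u}) (EtCoh.const (V : Scheme.{u}) (ZMod N)) m) *
      Nat.card (EtCoh.H X (EtCoh.const X (ZMod N)) (m + 1)) := by
  have hSm : Smooth (V.ι ≫ f) := SmoothOfRelativeDimension.smooth m _
  have hkN : (N : IsLocalRing.ResidueField R) ≠ 0 := by
    have h1 := hN.map (IsLocalRing.residue R)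
    rw [map_natCast] at h1
    exact h1.ne_zero
  have hN0 : 0 < N := by
    rcases Nat.eq_zero_or_pos N with rfl | h
    · simp at hkN
    · exact h
  have hVK : ∀ x : ↥(VanCyc.fib R f K), (VanCyc.jA R f K).base x ∈ V := by
    intro x
    by_contra hx
    have h1 : (VanCyc.jA R f K).base x ∈ ({(VanCyc.icl R f).base x₀} : Set X) := hVx ▸ hx
    have h2 : (VanCyc.jA R f K) x = (VanCyc.icl R f) x₀ := h1
    have h3 : f ((VanCyc.jA R f K) x) = (VanCyc.toS R K) ((VanCyc.fibStr R f K) x) := by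
      rw [← Scheme.Hom.comp_apply, ← Scheme.Hom.comp_apply]
      exact congrArg (fun h : VanCyc.fib R f K ⟶ _ => h x) pullback.condition
    have h4 : f ((VanCyc.icl R f) x₀) = (VanCyc.toSk R) ((VanCyc.spStr R f) x₀) := by
      rw [← Scheme.Hom.comp_apply, ← Scheme.Hom.comp_apply]
      exact congrArg (fun h : VanCyc.spFib R f ⟶ _ => h x₀) pullback.condition
    have h5 : (VanCyc.toS R K) ((VanCyc.fibStr R f K) x) ∈ Set.range (VanCyc.toSk R) := by
      rw [← h3, h2, h4]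
      exact ⟨_, rfl⟩
    rw [Sga4h.FinDVR.range_residue R K] at h5
    exact h5 ⟨_, rfl⟩
  obtain ⟨j, hj⟩ := exists_lift R K f V hVK
  have sq : IsPullback (VanCyc.fibStr R f K) j (VanCyc.toS R K) (V.ι ≫ f) := by
    apply isPullback_of_mono
    rw [hj]
    exact (IsPullback.of_hasPullback f (VanCyc.toS R K)).flip
  have hcl : IsClosedImmersion (VanCyc.toSk R) :=
    IsClosedImmersion.spec_of_surjective _ IsLocalRing.residue_surjective
  let Vs : (VanCyc.spFib R f).Opens := (VanCyc.icl R f) ⁻¹ᵁ V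
  let i : (Vs : Scheme.{u}) ⟶ (V : Scheme.{u}) := (VanCyc.icl R f) ∣_ V
  have sq1 : IsPullback i (Vs.ι ≫ VanCyc.spStr R f) (V.ι ≫ f) (VanCyc.toSk R) :=
    (isPullback_morphismRestrict (VanCyc.icl R f) V).paste_vert
      (IsPullback.of_hasPullback f (VanCyc.toSk R))
  have hi : IsClosedImmersion i := MorphismProperty.of_isPullback sq1.flip hcl
  have hVs : SmoothOfRelativeDimension m (Vs.ι ≫ VanCyc.spStr R f) := by
    have := smoothOfRelativeDimension_isStableUnderBaseChange (n := m)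
    exact MorphismProperty.of_isPullback (P := @SmoothOfRelativeDimension m) sq1 hV
  have hinj : Function.Injective (VanCyc.icl R f).base :=
    (VanCyc.icl R f).isClosedEmbedding.injective
  have hxs : ((Vs : Set ↥(VanCyc.spFib R f))ᶜ) = {x₀} := by
    ext y
    have h1 : y ∈ ((Vs : Set ↥(VanCyc.spFib R f))ᶜ) ↔ (VanCyc.icl R f).base y ∈ ((V : Set X)ᶜ) := Iff.rfl
    rw [h1, hVx, Set.mem_singleton_iff, Set.mem_singleton_iff]
    exact hinj.eq_iff
  obtain ⟨h1, h2, h3⟩ := card_special (IsLocalRing.ResidueField R) (VanCyc.spStr R f) Vs m hm hVs x₀ hxs N hkN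
  obtain ⟨n, rfl⟩ : ∃ n, m = n + 1 := ⟨m - 1, by omega⟩
  obtain ⟨h4, h5⟩ := card_le_aux hR N hN (V.ι ≫ f) j (VanCyc.fibStr R f K) sq i
    (Vs.ι ≫ VanCyc.spStr R f) sq1.flip n hfin h1
  have hR' := hR
  obtain ⟨_, _⟩ := hR
  obtain ⟨E⟩ := nonempty_H_special R f N hN0 (n + 1 + 1)
  refine ⟨h4, h5.trans (Nat.mul_le_mul_left _ ?_)⟩
  rw [Nat.card_congr E.toEquiv]
  exact h3

end Groth.Agent.Lefpen.H651.UB
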