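import Groth.Agent.S0620
import Groth.Agent.EtpbcB.StrictHensTransport
import Groth.Agent.EtpbcB.IsoTransport
import Groth.Agent.EtpbcB.SepClosedPoint
import Groth.Agent.Etbase.StrictHensPoint
import Groth.Agent.Sga4h.TameField
import Groth.Agent.Sga4h.TameFieldCyc
import Groth.Agent.Sga4h.FinDVR
import Groth.Agent.Sga4h.LerayAcyc
import Groth.Agent.Sga4B.PointConst
import Groth.Agent.Vancyc.H675.AcycPt
import Groth.Agent.Etrest.ConstBasic
import Groth.Prelude.Def_VanCyc
import Mathlib.GroupTheory.SpecificGroups.Cyclic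

/-!
# Direct images of the generic point of a strictly henselian discrete valuation ring

`j₀ : Spec K ⟶ Spec R`, `F` a sheaf on `Spec K` killed by `N` invertible in `R`:
* `isZero_Rpush` : `R^q j₀_* F = 0` for `q ≥ 2`;
* `isIso_unit_const` : the unit `const M ⟶ j₀_* j₀^* const M` is an isomorphism;
* `exists_R1` : `R¹ j₀_* ℤ/N ≅ i₀_* ℤ/N`.
-/

set_option autoImplicit false
universe u
open CategoryTheory CategoryTheory.Limits AlgebraicGeometry Opposite

namespace Groth.Agent.Lefpen.H651.DvrJ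

open Groth.Agent.Etbase Groth.Agent.Vancyc.H675.AcycPt

section SH

variable (R : Type u) [CommRing R] [HenselianLocalRing R] [IsSepClosed (IsLocalRing.ResidueField R)]

/-- The stalk of a higher direct image at the closed point of a strictly henselian local scheme. -/
theorem nonempty_stalk_Rpush {X : Scheme.{u}} (f : X ⟶ Spec (CommRingCat.of R)) [QuasiCompact f]
    [QuasiSeparated f] (F : EtCoh.Ab X) (n : ℕ) :
    Nonempty (((EtCoh.stalk (StrictHensPoint.pt R)).obj ((EtCoh.Rpush f n).obj F) :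
      AddCommGrpCat.{u + 1}) ≃+ EtCoh.H X F n) := by
  obtain ⟨i1, i2, i3, h1⟩ := EtpbcB.StrictHensTransport.exists_specOf_closedPoint R
  have h4 : Hens2.geomPt (Spec (CommRingCat.of R)) (IsLocalRing.closedPoint R) R =
      StrictHensPoint.pt R := by
    rw [Hens2.geomPt, h1]
    exact Category.comp_id _
  obtain ⟨e⟩ := S0620.result f F (IsLocalRing.closedPoint R : Spec (CommRingCat.of R)) R n
  have hi : IsIso (Hens2.specOf (Spec (CommRingCat.of R)) (IsLocalRing.closedPoint R) R) := by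
    rw [h1]
    infer_instance
  rw [← h4]
  exact ⟨e.addCommGroupIsoToAddEquiv.trans (EtpbcB.IsoTransport.HIso (pullback.fst f _) F n)⟩

/-- The global sections of the restriction to the closed point of a higher direct image. -/
theorem nonempty_sect_pull_Rpush {X : Scheme.{u}} (f : X ⟶ Spec (CommRingCat.of R)) [QuasiCompact f]
    [QuasiSeparated f] (F : EtCoh.Ab X) (n : ℕ) :
    Nonempty (EtCoh.sect ((EtCoh.pull (StrictHensPoint.pt R)).obj ((EtCoh.Rpush f n).obj F))
      (EtCoh.top (Spec (CommRingCat.of (IsLocalRing.ResidueField R)))) ≃+ EtCoh.H X F n) := by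
  obtain ⟨e⟩ := nonempty_stalk_Rpush R f F n
  exact ⟨((EtpbcB.SepClosedPoint.stalkIsoGammaPull (Ω := IsLocalRing.ResidueField R)
    (StrictHensPoint.pt R)).app ((EtCoh.Rpush f n).obj F)).addCommGroupIsoToAddEquiv.symm.trans e⟩

end SH

section Point

variable {k : Type u} [Field k] [IsSepClosed k]

/-- A sheaf on the spectrum of a separably closed field is constant. -/
theorem nonempty_iso_const_of_equiv (F : EtCoh.Ab (Spec (CommRingCat.of k))) (M : Type)
    [AddCommGroup M] (e : EtCoh.sect F (EtCoh.top (Spec (CommRingCat.of k))) ≃+ M) :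
    Nonempty (EtCoh.const (Spec (CommRingCat.of k)) M ≅ F) := by
  refine Groth.Agent.CurvesA.MuConst.nonempty_iso_const F M e.symm.toAddMonoidHom ?_ ?_
  · rintro U ⟨v⟩ m hm
    obtain ⟨s, -, -⟩ := Sga4B.PointConst.exists_hom_top U v
    have h1 := congrArg (F.obj.map s.op) hm
    rw [map_zero, ← ConcreteCategory.comp_apply, ← F.obj.map_comp, ← op_comp,
      EtpbcB.SepClosedPoint.hom_top_unique (s ≫ Groth.Agent.CurvesA.MuConst.toTop U) (𝟙 _)] at h1
    have h2 : e.symm m = 0 := by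
      simpa using h1
    exact (map_eq_zero_iff e.symm e.symm.injective).1 h2
  · intro U t x
    obtain ⟨s, w, hw⟩ := Sga4B.PointConst.exists_hom_top U x
    refine ⟨_, s, w, e (F.obj.map s.op t), hw, ?_⟩
    rw [EtpbcB.SepClosedPoint.hom_top_unique (Groth.Agent.CurvesA.MuConst.toTop _) (𝟙 _)]
    simp

end Point

/-- `j^* R^q j_* = 0` for an open immersion and `q > 0`. -/
theorem isZero_pull_Rpush {X₁ X : Scheme.{u}} (j : X₁ ⟶ X) [IsOpenImmersion j] (G : EtCoh.Ab X₁)
    (q : ℕ) (hq : 0 < q) : IsZero ((EtCoh.pull j).obj ((EtCoh.Rpush j q).obj G)) := by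
  have := Groth.Agent.Sga4h.EtaleRes.jCont j
  have h2 := Groth.Agent.Etcore.ShriekBasic.isIso_pullPushAdj_counit j
  let e : EtCoh.push j ⋙ EtCoh.pull j ≅ 𝟭 _ := asIso (EtCoh.pullPushAdj j).counit
  let e' : (EtCoh.pull j).obj ((EtCoh.Rpush j q).obj G) ≅ ((𝟭 (EtCoh.Ab X₁)).rightDerived q).obj G :=
    (Sga4h.LerayAcyc.rightDerivedExactIso (EtCoh.push j) (EtCoh.pull j) G q).symm ≪≫
      (Sga4h.LerayAcyc.rightDerivedCongr e q).app G
  obtain ⟨q, rfl⟩ := Nat.exists_eq_succ_of_ne_zero hq.ne'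
  exact (Etbase.PushExact.isZero_rightDerived_of_exact (𝟭 _) G q).of_iso e'

/-- `j^*` of the unit of an open immersion is an isomorphism. -/
theorem isIso_pull_unit {X₁ X : Scheme.{u}} (j : X₁ ⟶ X) [IsOpenImmersion j] (G : EtCoh.Ab X) :
    IsIso ((EtCoh.pull j).map ((EtCoh.pullPushAdj j).unit.app G)) := by
  have := Groth.Agent.Sga4h.EtaleRes.jCont j
  have h2 := Groth.Agent.Etcore.ShriekBasic.isIso_pullPushAdj_counit j
  have h3 := (EtCoh.pullPushAdj j).left_triangle_components G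
  have h4 : IsIso ((EtCoh.pull j).map ((EtCoh.pullPushAdj j).unit.app G) ≫
      (EtCoh.pullPushAdj j).counit.app ((EtCoh.pull j).obj G)) := by
    rw [h3]
    exact IsIso.id _
  exact IsIso.of_isIso_comp_right _ ((EtCoh.pullPushAdj j).counit.app ((EtCoh.pull j).obj G))

section DVR

variable (R K : Type u) [CommRing R] [IsDomain R] [IsDiscreteValuationRing R] [Field K]
  [Algebra R K] [IsFractionRing R K] (hR : EtCoh.IsStrictlyHenselianLocalRing R)

include hR

omit hR in
theorem isZero_of_closedPt (G : EtCoh.Ab (Spec (CommRingCat.of R)))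
    (h1 : IsZero ((EtCoh.pull (VanCyc.toS R K)).obj G))
    (h0 : IsZero ((EtCoh.pull (VanCyc.toSk R)).obj G)) : IsZero G :=
  Sga4h.FinD.isZero_of_open_closed (VanCyc.toS R K) (VanCyc.toSk R) (Sga4h.FinDVR.range_residue R K) G h1 h0

/-- `R^q j₀_* F = 0` for `q ≥ 2`. -/
theorem isZero_Rpush (N : ℕ) (hN : IsUnit (N : R)) (F : EtCoh.Ab (Spec (CommRingCat.of K)))
    (hF : EtCoh.KilledBy N F) (q : ℕ) (hq : 2 ≤ q) :
    IsZero ((EtCoh.Rpush (VanCyc.toS R K) q).obj F) := by
  have hj : IsOpenImmersion (VanCyc.toS R K) := Groth.Agent.Models.DVRGeneric.isOpenImmersion_generic R K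
  refine isZero_of_closedPt R K _ (isZero_pull_Rpush _ F q (by omega)) ?_
  have hR' := hR
  obtain ⟨_, _⟩ := hR
  obtain ⟨e⟩ := nonempty_sect_pull_Rpush R (VanCyc.toS R K) F q
  have h1 : Subsingleton (EtCoh.H (Spec (CommRingCat.of K)) F q) :=
    Sga4h.TameField.K1 R K hR' N hN F hF q hq
  have h2 := e.toEquiv.subsingleton
  obtain ⟨i⟩ := nonempty_iso_const_of_equiv
    ((EtCoh.pull (VanCyc.toSk R)).obj ((EtCoh.Rpush (VanCyc.toS R K) q).obj F)) PUnit
    { toFun := fun _ => PUnit.unit, invFun := fun _ => 0, left_inv := fun _ => Subsingleton.elim _ _,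
      right_inv := fun _ => rfl, map_add' := fun _ _ => rfl }
  refine IsZero.of_iso ?_ i.symm
  refine (constantSheaf (Spec (CommRingCat.of (IsLocalRing.ResidueField R))).smallEtaleTopology
    AddCommGrpCat.{u + 1}).map_isZero ?_
  exact AddCommGrpCat.isZero_of_subsingleton _

/-- The unit of `j₀` at a constant sheaf is an isomorphism. -/
theorem isIso_unit_const (M : AddCommGrpCat.{u + 1}) :
    IsIso ((EtCoh.pullPushAdj (VanCyc.toS R K)).unit.app ((constU _).obj M)) := by
  have hj : IsOpenImmersion (VanCyc.toS R K) := Groth.Agent.Models.DVRGeneric.isOpenImmersion_generic R K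
  obtain ⟨_, _⟩ := hR
  refine Etcore.Stalks.isIso_of_stalks _ fun z => ?_
  by_cases hz : z ∈ Set.range (VanCyc.toSk R)
  · obtain ⟨y, rfl⟩ := hz
    have hy : y = default := Subsingleton.elim (α := PrimeSpectrum (IsLocalRing.ResidueField R)) _ _
    subst hy
    refine ⟨IsLocalRing.ResidueField R, inferInstance, inferInstance, VanCyc.toSk R, rfl, ?_⟩
    refine isIso_stalk_unit_const R _ M _ ?_
    have h : (default : Spec (CommRingCat.of (IsLocalRing.ResidueField R))) =
        (IsLocalRing.closedPoint (IsLocalRing.ResidueField R) : PrimeSpectrum _) :=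
      Subsingleton.elim (α := PrimeSpectrum (IsLocalRing.ResidueField R)) _ _
    rw [h]
    exact IsLocalRing.comap_closedPoint (IsLocalRing.residue R)
  · rw [Sga4h.FinDVR.range_residue R K, Set.notMem_compl_iff] at hz
    obtain ⟨y, rfl⟩ := hz
    obtain ⟨Ω, _, _, ζ, hζ⟩ := Etcore.Stalks.exists_geom y
    refine ⟨Ω, inferInstance, inferInstance, ζ ≫ VanCyc.toS R K, ?_, ?_⟩
    · rw [Scheme.Hom.comp_apply, hζ]
    · have h1 := isIso_pull_unit (VanCyc.toS R K) ((constU _).obj M)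
      exact (NatIso.isIso_map_iff (Etbase.StalkPull.stalkPullIso (VanCyc.toS R K) ζ) _).2
        (inferInstanceAs (IsIso ((EtCoh.stalk ζ).map ((EtCoh.pull (VanCyc.toS R K)).map
          ((EtCoh.pullPushAdj (VanCyc.toS R K)).unit.app ((constU _).obj M))))))

/-- `H¹(K, ℤ/N) ≃ ℤ/N`. -/
theorem nonempty_H1 (N : ℕ) (hN : IsUnit (N : R)) :
    Nonempty (EtCoh.H (Spec (CommRingCat.of K)) (EtCoh.const (Spec (CommRingCat.of K)) (ZMod N)) 1 ≃+
      ZMod N) := by
  obtain ⟨Φ, hΦ⟩ := Sga4h.TameFieldCyc.exists_surj R K hR N hN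
  have hc := Sga4h.TameField.K2 R K hR N hN
  have : IsAddCyclic (EtCoh.H (Spec (CommRingCat.of K)) (EtCoh.const (Spec (CommRingCat.of K)) (ZMod N)) 1) :=
    isAddCyclic_of_surjective Φ hΦ
  have e := zmodAddCyclicAddEquiv (G := EtCoh.H (Spec (CommRingCat.of K))
    (EtCoh.const (Spec (CommRingCat.of K)) (ZMod N)) 1) inferInstance
  rw [hc] at e
  exact ⟨e.symm⟩

/-- `R¹ j₀_* ℤ/N ≅ i₀_* ℤ/N`. -/
theorem exists_R1 (N : ℕ) (hN : IsUnit (N : R)) :
    Nonempty ((EtCoh.Rpush (VanCyc.toS R K) 1).obj (EtCoh.const (Spec (CommRingCat.of K)) (ZMod N)) ≅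
      (EtCoh.push (VanCyc.toSk R)).obj
        (EtCoh.const (Spec (CommRingCat.of (IsLocalRing.ResidueField R))) (ZMod N))) := by
  have hj : IsOpenImmersion (VanCyc.toS R K) := Groth.Agent.Models.DVRGeneric.isOpenImmersion_generic R K
  have hi : IsClosedImmersion (VanCyc.toSk R) :=
    IsClosedImmersion.spec_of_surjective _ IsLocalRing.residue_surjective
  have hR' := hR
  obtain ⟨_, _⟩ := hR
  obtain ⟨e⟩ := nonempty_sect_pull_Rpush R (VanCyc.toS R K) (EtCoh.const (Spec (CommRingCat.of K)) (ZMod N)) 1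
  obtain ⟨e'⟩ := nonempty_H1 R K hR' N hN
  obtain ⟨i⟩ := nonempty_iso_const_of_equiv ((EtCoh.pull (VanCyc.toSk R)).obj
    ((EtCoh.Rpush (VanCyc.toS R K) 1).obj (EtCoh.const (Spec (CommRingCat.of K)) (ZMod N)))) (ZMod N)
    (e.trans e')
  obtain ⟨i'⟩ := Sga4h.FinD.nonempty_iso_push_pull (VanCyc.toS R K) (VanCyc.toSk R)
    (Sga4h.FinDVR.range_residue R K) _ (isZero_pull_Rpush (VanCyc.toS R K)
      (EtCoh.const (Spec (CommRingCat.of K)) (ZMod N)) 1 Nat.one_pos)
  exact ⟨i' ≪≫ (EtCoh.push (VanCyc.toSk R)).mapIso i.symm⟩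

end DVR

end Groth.Agent.Lefpen.H651.DvrJ
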